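import Mathlib
import Cfsg.Agent.Rec.B6

/-! Generated by tools/rec: letters for Sp6(2) -/

set_option autoImplicit false
set_option maxRecDepth 100000
set_option linter.unusedVariables false
set_option exponentiation.threshold 100000

namespace Cfsg.Agent.F4L

open Cfsg.Agent.Spor Cfsg.Agent.Rec

universe u

noncomputable def cK : List ℕ := [(nat_lit 0x810044089), (nat_lit 0x802204481), (nat_lit 0x110224081), (nat_lit 0x408802044), (nat_lit 0x808404042), (nat_lit 0x810204089), (nat_lit 0x810204481), (nat_lit 0x810224081), (nat_lit 0xe33ac775e), (nat_lit 0x810204699)]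

noncomputable def Y_t : ST :=
(.node (nat_lit 0x810444288) (.node (nat_lit 0x8086044ca) (.node (nat_lit 0x8022c44c1) (.node (nat_lit 0x8014c4610) (.node (nat_lit 0x801404643) (.node (nat_lit 0x8010c4653) (.node (nat_lit 0x801084293) (.node (nat_lit 0x801084250) (.node (nat_lit 0x801084212) (.leaf (nat_lit 0x801084210) (nat_lit 1284))
 (.leaf (nat_lit 0x801084212) (nat_lit 1028))
) (.node (nat_lit 0x801084252) (.leaf (nat_lit 0x801084250) (nat_lit 1028))
 (.node (nat_lit 0x801084291) (.leaf (nat_lit 0x801084252) (nat_lit 772))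
 (.leaf (nat_lit 0x801084291) (nat_lit 1029))
))) (.node (nat_lit 0x8010c4610) (.node (nat_lit 0x8010842d1) (.leaf (nat_lit 0x801084293) (nat_lit 1285))
 (.node (nat_lit 0x8010842d3) (.leaf (nat_lit 0x8010842d1) (nat_lit 1285))
 (.leaf (nat_lit 0x8010842d3) (nat_lit 1541))
)) (.node (nat_lit 0x8010c4613) (.leaf (nat_lit 0x8010c4610) (nat_lit 1280))
 (.node (nat_lit 0x8010c4650) (.leaf (nat_lit 0x8010c4613) (nat_lit 1280))
 (.leaf (nat_lit 0x8010c4650) (nat_lit 1536))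
)))) (.node (nat_lit 0x801404202) (.node (nat_lit 0x8010c4692) (.node (nat_lit 0x8010c4691) (.leaf (nat_lit 0x8010c4653) (nat_lit 1536))
 (.leaf (nat_lit 0x8010c4691) (nat_lit 1536))
) (.node (nat_lit 0x8010c46d1) (.leaf (nat_lit 0x8010c4692) (nat_lit 1541))
 (.node (nat_lit 0x8010c46d2) (.leaf (nat_lit 0x8010c46d1) (nat_lit 1792))
 (.leaf (nat_lit 0x8010c46d2) (nat_lit 1797))
))) (.node (nat_lit 0x801404252) (.node (nat_lit 0x801404212) (.leaf (nat_lit 0x801404202) (nat_lit 772))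
 (.node (nat_lit 0x801404242) (.leaf (nat_lit 0x801404212) (nat_lit 1028))
 (.leaf (nat_lit 0x801404242) (nat_lit 516))
)) (.node (nat_lit 0x801404603) (.leaf (nat_lit 0x801404252) (nat_lit 772))
 (.node (nat_lit 0x801404613) (.leaf (nat_lit 0x801404603) (nat_lit 1029))
 (.leaf (nat_lit 0x801404613) (nat_lit 773))
))))) (.node (nat_lit 0x801484210) (.node (nat_lit 0x8014442d3) (.node (nat_lit 0x801444282) (.node (nat_lit 0x801404653) (.leaf (nat_lit 0x801404643) (nat_lit 1285))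
 (.leaf (nat_lit 0x801404653) (nat_lit 1029))
) (.node (nat_lit 0x801444293) (.leaf (nat_lit 0x801444282) (nat_lit 1538))
 (.node (nat_lit 0x8014442c2) (.leaf (nat_lit 0x801444293) (nat_lit 1280))
 (.leaf (nat_lit 0x8014442c2) (nat_lit 1794))
))) (.node (nat_lit 0x8014446c3) (.node (nat_lit 0x801444683) (.leaf (nat_lit 0x8014442d3) (nat_lit 1536))
 (.node (nat_lit 0x801444692) (.leaf (nat_lit 0x801444683) (nat_lit 1541))
 (.leaf (nat_lit 0x801444692) (nat_lit 1793))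
)) (.node (nat_lit 0x8014446d2) (.leaf (nat_lit 0x8014446c3) (nat_lit 1537))
 (.node (nat_lit 0x801484202) (.leaf (nat_lit 0x8014446d2) (nat_lit 1537))
 (.leaf (nat_lit 0x801484202) (nat_lit 1284))
)))) (.node (nat_lit 0x8014846d1) (.node (nat_lit 0x801484683) (.node (nat_lit 0x801484242) (.leaf (nat_lit 0x801484210) (nat_lit 1284))
 (.node (nat_lit 0x801484250) (.leaf (nat_lit 0x801484242) (nat_lit 1028))
 (.leaf (nat_lit 0x801484250) (nat_lit 1028))
)) (.node (nat_lit 0x801484691) (.leaf (nat_lit 0x801484683) (nat_lit 1285))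
 (.node (nat_lit 0x8014846c3) (.leaf (nat_lit 0x801484691) (nat_lit 1285))
 (.leaf (nat_lit 0x8014846c3) (nat_lit 1541))
))) (.node (nat_lit 0x8014c42c2) (.node (nat_lit 0x8014c4282) (.leaf (nat_lit 0x8014846d1) (nat_lit 1541))
 (.node (nat_lit 0x8014c4291) (.leaf (nat_lit 0x8014c4282) (nat_lit 1536))
 (.leaf (nat_lit 0x8014c4291) (nat_lit 1285))
)) (.node (nat_lit 0x8014c42d1) (.leaf (nat_lit 0x8014c42c2) (nat_lit 1792))
 (.node (nat_lit 0x8014c4603) (.leaf (nat_lit 0x8014c42d1) (nat_lit 1541))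
 (.leaf (nat_lit 0x8014c4603) (nat_lit 1024))
)))))) (.node (nat_lit 0x802204489) (.node (nat_lit 0x8020c4608) (.node (nat_lit 0x80204444a) (.node (nat_lit 0x8014c4650) (.node (nat_lit 0x8014c4643) (.leaf (nat_lit 0x8014c4610) (nat_lit 1282))
 (.leaf (nat_lit 0x8014c4643) (nat_lit 1280))
) (.node (nat_lit 0x802044408) (.leaf (nat_lit 0x8014c4650) (nat_lit 1538))
 (.node (nat_lit 0x802044409) (.leaf (nat_lit 0x802044408) (nat_lit 1027))
 (.leaf (nat_lit 0x802044409) (nat_lit 771))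
))) (.node (nat_lit 0x802044489) (.node (nat_lit 0x80204444b) (.leaf (nat_lit 0x80204444a) (nat_lit 773))
 (.node (nat_lit 0x802044488) (.leaf (nat_lit 0x80204444b) (nat_lit 1029))
 (.leaf (nat_lit 0x802044488) (nat_lit 770))
)) (.node (nat_lit 0x8020444ca) (.leaf (nat_lit 0x802044489) (nat_lit 513))
 (.node (nat_lit 0x8020444cb) (.leaf (nat_lit 0x8020444ca) (nat_lit 1029))
 (.leaf (nat_lit 0x8020444cb) (nat_lit 1285))
)))) (.node (nat_lit 0x8020c468b) (.node (nat_lit 0x8020c4649) (.node (nat_lit 0x8020c460b) (.leaf (nat_lit 0x8020c4608) (nat_lit 1024))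
 (.leaf (nat_lit 0x8020c460b) (nat_lit 1024))
) (.node (nat_lit 0x8020c464a) (.leaf (nat_lit 0x8020c4649) (nat_lit 1285))
 (.node (nat_lit 0x8020c4688) (.leaf (nat_lit 0x8020c464a) (nat_lit 1280))
 (.leaf (nat_lit 0x8020c4688) (nat_lit 1280))
))) (.node (nat_lit 0x802204401) (.node (nat_lit 0x8020c46c9) (.leaf (nat_lit 0x8020c468b) (nat_lit 1280))
 (.node (nat_lit 0x8020c46ca) (.leaf (nat_lit 0x8020c46c9) (nat_lit 1541))
 (.leaf (nat_lit 0x8020c46ca) (nat_lit 1536))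
)) (.node (nat_lit 0x802204409) (.leaf (nat_lit 0x802204401) (nat_lit 515))
 (.node (nat_lit 0x802204481) (.leaf (nat_lit 0x802204409) (nat_lit 771))
 (.leaf (nat_lit 0x802204481) (nat_lit 257))
))))) (.node (nat_lit 0x8022446c3) (.node (nat_lit 0x802244401) (.node (nat_lit 0x80220460b) (.node (nat_lit 0x802204603) (.leaf (nat_lit 0x802204489) (nat_lit 514))
 (.leaf (nat_lit 0x802204603) (nat_lit 773))
) (.node (nat_lit 0x802204683) (.leaf (nat_lit 0x80220460b) (nat_lit 517))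
 (.node (nat_lit 0x80220468b) (.leaf (nat_lit 0x802204683) (nat_lit 1029))
 (.leaf (nat_lit 0x80220468b) (nat_lit 773))
))) (.node (nat_lit 0x802244488) (.node (nat_lit 0x802244408) (.leaf (nat_lit 0x802244401) (nat_lit 1027))
 (.node (nat_lit 0x802244481) (.leaf (nat_lit 0x802244408) (nat_lit 1027))
 (.leaf (nat_lit 0x802244481) (nat_lit 768))
)) (.node (nat_lit 0x802244643) (.leaf (nat_lit 0x802244488) (nat_lit 769))
 (.node (nat_lit 0x80224464a) (.leaf (nat_lit 0x802244643) (nat_lit 1029))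
 (.leaf (nat_lit 0x80224464a) (nat_lit 1029))
)))) (.node (nat_lit 0x802284643) (.node (nat_lit 0x80228444b) (.node (nat_lit 0x8022446ca) (.leaf (nat_lit 0x8022446c3) (nat_lit 1285))
 (.node (nat_lit 0x802284441) (.leaf (nat_lit 0x8022446ca) (nat_lit 1285))
 (.leaf (nat_lit 0x802284441) (nat_lit 1282))
)) (.node (nat_lit 0x8022844c1) (.leaf (nat_lit 0x80228444b) (nat_lit 1024))
 (.node (nat_lit 0x8022844cb) (.leaf (nat_lit 0x8022844c1) (nat_lit 1538))
 (.leaf (nat_lit 0x8022844cb) (nat_lit 1280))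
))) (.node (nat_lit 0x8022846c9) (.node (nat_lit 0x802284649) (.leaf (nat_lit 0x802284643) (nat_lit 1285))
 (.node (nat_lit 0x8022846c3) (.leaf (nat_lit 0x802284649) (nat_lit 1536))
 (.leaf (nat_lit 0x8022846c3) (nat_lit 1541))
)) (.node (nat_lit 0x8022c4441) (.leaf (nat_lit 0x8022846c9) (nat_lit 1792))
 (.node (nat_lit 0x8022c444a) (.leaf (nat_lit 0x8022c4441) (nat_lit 1280))
 (.leaf (nat_lit 0x8022c444a) (nat_lit 1029))
))))))) (.node (nat_lit 0x80368449b) (.node (nat_lit 0x803604202) (.node (nat_lit 0x80304449b) (.node (nat_lit 0x8022c4688) (.node (nat_lit 0x8022c4603) (.node (nat_lit 0x8022c44ca) (.leaf (nat_lit 0x8022c44c1) (nat_lit 1536))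
 (.leaf (nat_lit 0x8022c44ca) (nat_lit 1285))
) (.node (nat_lit 0x8022c4608) (.leaf (nat_lit 0x8022c4603) (nat_lit 768))
 (.node (nat_lit 0x8022c4683) (.leaf (nat_lit 0x8022c4608) (nat_lit 1026))
 (.leaf (nat_lit 0x8022c4683) (nat_lit 1024))
))) (.node (nat_lit 0x80304445a) (.node (nat_lit 0x803044418) (.leaf (nat_lit 0x8022c4688) (nat_lit 1282))
 (.node (nat_lit 0x803044419) (.leaf (nat_lit 0x803044418) (nat_lit 1025))
 (.leaf (nat_lit 0x803044419) (nat_lit 1281))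
)) (.node (nat_lit 0x80304445b) (.leaf (nat_lit 0x80304445a) (nat_lit 1281))
 (.node (nat_lit 0x80304449a) (.leaf (nat_lit 0x80304445b) (nat_lit 1537))
 (.leaf (nat_lit 0x80304449a) (nat_lit 1285))
)))) (.node (nat_lit 0x803084259) (.node (nat_lit 0x8030444d9) (.node (nat_lit 0x8030444d8) (.leaf (nat_lit 0x80304449b) (nat_lit 1541))
 (.leaf (nat_lit 0x8030444d8) (nat_lit 1025))
) (.node (nat_lit 0x803084218) (.leaf (nat_lit 0x8030444d9) (nat_lit 1281))
 (.node (nat_lit 0x80308421a) (.leaf (nat_lit 0x803084218) (nat_lit 1281))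
 (.leaf (nat_lit 0x80308421a) (nat_lit 1537))
))) (.node (nat_lit 0x80308429b) (.node (nat_lit 0x80308425b) (.leaf (nat_lit 0x803084259) (nat_lit 1541))
 (.node (nat_lit 0x803084299) (.leaf (nat_lit 0x80308425b) (nat_lit 1797))
 (.leaf (nat_lit 0x803084299) (nat_lit 1537))
)) (.node (nat_lit 0x8030842d8) (.leaf (nat_lit 0x80308429b) (nat_lit 1793))
 (.node (nat_lit 0x8030842da) (.leaf (nat_lit 0x8030842d8) (nat_lit 1281))
 (.leaf (nat_lit 0x8030842da) (nat_lit 1537))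
))))) (.node (nat_lit 0x80364429b) (.node (nat_lit 0x803604419) (.node (nat_lit 0x8036042c2) (.node (nat_lit 0x80360421a) (.leaf (nat_lit 0x803604202) (nat_lit 1541))
 (.leaf (nat_lit 0x80360421a) (nat_lit 1537))
) (.node (nat_lit 0x8036042da) (.leaf (nat_lit 0x8036042c2) (nat_lit 1541))
 (.node (nat_lit 0x803604401) (.leaf (nat_lit 0x8036042da) (nat_lit 1537))
 (.leaf (nat_lit 0x803604401) (nat_lit 1538))
))) (.node (nat_lit 0x803644242) (.node (nat_lit 0x8036044c1) (.leaf (nat_lit 0x803604419) (nat_lit 1281))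
 (.node (nat_lit 0x8036044d9) (.leaf (nat_lit 0x8036044c1) (nat_lit 1538))
 (.leaf (nat_lit 0x8036044d9) (nat_lit 1281))
)) (.node (nat_lit 0x80364425b) (.leaf (nat_lit 0x803644242) (nat_lit 1541))
 (.node (nat_lit 0x803644282) (.leaf (nat_lit 0x80364425b) (nat_lit 1797))
 (.leaf (nat_lit 0x803644282) (nat_lit 1541))
)))) (.node (nat_lit 0x803684218) (.node (nat_lit 0x8036444c1) (.node (nat_lit 0x803644401) (.leaf (nat_lit 0x80364429b) (nat_lit 1793))
 (.node (nat_lit 0x803644418) (.leaf (nat_lit 0x803644401) (nat_lit 1537))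
 (.leaf (nat_lit 0x803644418) (nat_lit 1281))
)) (.node (nat_lit 0x8036444d8) (.leaf (nat_lit 0x8036444c1) (nat_lit 1537))
 (.node (nat_lit 0x803684202) (.leaf (nat_lit 0x8036444d8) (nat_lit 1281))
 (.leaf (nat_lit 0x803684202) (nat_lit 1797))
))) (.node (nat_lit 0x803684441) (.node (nat_lit 0x8036842c2) (.leaf (nat_lit 0x803684218) (nat_lit 1537))
 (.node (nat_lit 0x8036842d8) (.leaf (nat_lit 0x8036842c2) (nat_lit 1797))
 (.leaf (nat_lit 0x8036842d8) (nat_lit 1537))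
)) (.node (nat_lit 0x80368445b) (.leaf (nat_lit 0x803684441) (nat_lit 1794))
 (.node (nat_lit 0x803684481) (.leaf (nat_lit 0x80368445b) (nat_lit 1537))
 (.leaf (nat_lit 0x803684481) (nat_lit 1794))
)))))) (.node (nat_lit 0x80828465a) (.node (nat_lit 0x8080840d8) (.node (nat_lit 0x8036c4441) (.node (nat_lit 0x8036c4259) (.node (nat_lit 0x8036c4242) (.leaf (nat_lit 0x80368449b) (nat_lit 1536))
 (.leaf (nat_lit 0x8036c4242) (nat_lit 1797))
) (.node (nat_lit 0x8036c4282) (.leaf (nat_lit 0x8036c4259) (nat_lit 2051))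
 (.node (nat_lit 0x8036c4299) (.leaf (nat_lit 0x8036c4282) (nat_lit 2049))
 (.leaf (nat_lit 0x8036c4299) (nat_lit 1793))
))) (.node (nat_lit 0x8036c449a) (.node (nat_lit 0x8036c445a) (.leaf (nat_lit 0x8036c4441) (nat_lit 1793))
 (.node (nat_lit 0x8036c4481) (.leaf (nat_lit 0x8036c445a) (nat_lit 1537))
 (.leaf (nat_lit 0x8036c4481) (nat_lit 1792))
)) (.node (nat_lit 0x808084050) (.leaf (nat_lit 0x8036c449a) (nat_lit 1792))
 (.node (nat_lit 0x808084052) (.leaf (nat_lit 0x808084050) (nat_lit 772))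
 (.leaf (nat_lit 0x808084052) (nat_lit 516))
)))) (.node (nat_lit 0x8080842da) (.node (nat_lit 0x808084250) (.node (nat_lit 0x8080840da) (.leaf (nat_lit 0x8080840d8) (nat_lit 1029))
 (.leaf (nat_lit 0x8080840da) (nat_lit 1285))
) (.node (nat_lit 0x808084252) (.leaf (nat_lit 0x808084250) (nat_lit 1028))
 (.node (nat_lit 0x8080842d8) (.leaf (nat_lit 0x808084252) (nat_lit 772))
 (.leaf (nat_lit 0x8080842d8) (nat_lit 773))
))) (.node (nat_lit 0x8082844d2) (.node (nat_lit 0x808284450) (.leaf (nat_lit 0x8080842da) (nat_lit 1029))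
 (.node (nat_lit 0x80828445a) (.leaf (nat_lit 0x808284450) (nat_lit 1280))
 (.leaf (nat_lit 0x80828445a) (nat_lit 1280))
)) (.node (nat_lit 0x8082844d8) (.leaf (nat_lit 0x8082844d2) (nat_lit 1541))
 (.node (nat_lit 0x808284650) (.leaf (nat_lit 0x8082844d8) (nat_lit 1536))
 (.leaf (nat_lit 0x808284650) (nat_lit 1024))
))))) (.node (nat_lit 0x808484042) (.node (nat_lit 0x808404242) (.node (nat_lit 0x8082846d8) (.node (nat_lit 0x8082846d2) (.leaf (nat_lit 0x80828465a) (nat_lit 1024))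
 (.leaf (nat_lit 0x8082846d2) (nat_lit 1285))
) (.node (nat_lit 0x808404042) (.leaf (nat_lit 0x8082846d8) (nat_lit 1280))
 (.node (nat_lit 0x808404052) (.leaf (nat_lit 0x808404042) (nat_lit 260))
 (.leaf (nat_lit 0x808404052) (nat_lit 516))
))) (.node (nat_lit 0x80840445a) (.node (nat_lit 0x808404252) (.leaf (nat_lit 0x808404242) (nat_lit 516))
 (.node (nat_lit 0x80840444a) (.leaf (nat_lit 0x808404252) (nat_lit 772))
 (.leaf (nat_lit 0x80840444a) (nat_lit 1029))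
)) (.node (nat_lit 0x80840464a) (.leaf (nat_lit 0x80840445a) (nat_lit 773))
 (.node (nat_lit 0x80840465a) (.leaf (nat_lit 0x80840464a) (nat_lit 773))
 (.leaf (nat_lit 0x80840465a) (nat_lit 517))
)))) (.node (nat_lit 0x8084846ca) (.node (nat_lit 0x808484250) (.node (nat_lit 0x808484050) (.leaf (nat_lit 0x808484042) (nat_lit 772))
 (.node (nat_lit 0x808484242) (.leaf (nat_lit 0x808484050) (nat_lit 772))
 (.leaf (nat_lit 0x808484242) (nat_lit 1028))
)) (.node (nat_lit 0x8084844ca) (.leaf (nat_lit 0x808484250) (nat_lit 1028))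
 (.node (nat_lit 0x8084844d8) (.leaf (nat_lit 0x8084844ca) (nat_lit 1285))
 (.leaf (nat_lit 0x8084844d8) (nat_lit 1285))
))) (.node (nat_lit 0x8086040da) (.node (nat_lit 0x8084846d8) (.leaf (nat_lit 0x8084846ca) (nat_lit 1029))
 (.node (nat_lit 0x8086040c2) (.leaf (nat_lit 0x8084846d8) (nat_lit 1029))
 (.leaf (nat_lit 0x8086040c2) (nat_lit 1538))
)) (.node (nat_lit 0x8086042c2) (.leaf (nat_lit 0x8086040da) (nat_lit 1280))
 (.node (nat_lit 0x8086042da) (.leaf (nat_lit 0x8086042c2) (nat_lit 1282))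
 (.leaf (nat_lit 0x8086042da) (nat_lit 1024))
)))))))) (.node (nat_lit 0x80a4c4608) (.node (nat_lit 0x8096440db) (.node (nat_lit 0x8092c44d2) (.node (nat_lit 0x808684650) (.node (nat_lit 0x8086840d8) (.node (nat_lit 0x8086046ca) (.node (nat_lit 0x8086044d2) (.leaf (nat_lit 0x8086044ca) (nat_lit 1541))
 (.leaf (nat_lit 0x8086044d2) (nat_lit 1795))
) (.node (nat_lit 0x8086046d2) (.leaf (nat_lit 0x8086046ca) (nat_lit 1285))
 (.node (nat_lit 0x8086840c2) (.leaf (nat_lit 0x8086046d2) (nat_lit 1537))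
 (.leaf (nat_lit 0x8086840c2) (nat_lit 1536))
))) (.node (nat_lit 0x80868444a) (.node (nat_lit 0x8086842c2) (.leaf (nat_lit 0x8086840d8) (nat_lit 1285))
 (.node (nat_lit 0x8086842d8) (.leaf (nat_lit 0x8086842c2) (nat_lit 1280))
 (.leaf (nat_lit 0x8086842d8) (nat_lit 1029))
)) (.node (nat_lit 0x808684450) (.leaf (nat_lit 0x80868444a) (nat_lit 1024))
 (.node (nat_lit 0x80868464a) (.leaf (nat_lit 0x808684450) (nat_lit 1282))
 (.leaf (nat_lit 0x80868464a) (nat_lit 768))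
)))) (.node (nat_lit 0x809084210) (.node (nat_lit 0x809084052) (.node (nat_lit 0x809084050) (.leaf (nat_lit 0x808684650) (nat_lit 1026))
 (.leaf (nat_lit 0x809084050) (nat_lit 1284))
) (.node (nat_lit 0x8090840d9) (.leaf (nat_lit 0x809084052) (nat_lit 1028))
 (.node (nat_lit 0x8090840db) (.leaf (nat_lit 0x8090840d9) (nat_lit 1285))
 (.leaf (nat_lit 0x8090840db) (nat_lit 1541))
))) (.node (nat_lit 0x80908429b) (.node (nat_lit 0x809084212) (.leaf (nat_lit 0x809084210) (nat_lit 1284))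
 (.node (nat_lit 0x809084299) (.leaf (nat_lit 0x809084212) (nat_lit 1028))
 (.leaf (nat_lit 0x809084299) (nat_lit 1285))
)) (.node (nat_lit 0x8092c4450) (.leaf (nat_lit 0x80908429b) (nat_lit 1541))
 (.node (nat_lit 0x8092c445b) (.leaf (nat_lit 0x8092c4450) (nat_lit 1536))
 (.leaf (nat_lit 0x8092c445b) (nat_lit 1536))
))))) (.node (nat_lit 0x80940445b) (.node (nat_lit 0x8092c4699) (.node (nat_lit 0x8092c4610) (.node (nat_lit 0x8092c44d9) (.leaf (nat_lit 0x8092c44d2) (nat_lit 1537))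
 (.leaf (nat_lit 0x8092c44d9) (nat_lit 1792))
) (.node (nat_lit 0x8092c461b) (.leaf (nat_lit 0x8092c4610) (nat_lit 1536))
 (.node (nat_lit 0x8092c4692) (.leaf (nat_lit 0x8092c461b) (nat_lit 1536))
 (.leaf (nat_lit 0x8092c4692) (nat_lit 1797))
))) (.node (nat_lit 0x809404202) (.node (nat_lit 0x809404042) (.leaf (nat_lit 0x8092c4699) (nat_lit 1792))
 (.node (nat_lit 0x809404052) (.leaf (nat_lit 0x809404042) (nat_lit 772))
 (.leaf (nat_lit 0x809404052) (nat_lit 1028))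
)) (.node (nat_lit 0x809404212) (.leaf (nat_lit 0x809404202) (nat_lit 772))
 (.node (nat_lit 0x80940444b) (.leaf (nat_lit 0x809404212) (nat_lit 1028))
 (.leaf (nat_lit 0x80940444b) (nat_lit 1285))
)))) (.node (nat_lit 0x809484210) (.node (nat_lit 0x809484042) (.node (nat_lit 0x80940460b) (.leaf (nat_lit 0x80940445b) (nat_lit 1029))
 (.node (nat_lit 0x80940461b) (.leaf (nat_lit 0x80940460b) (nat_lit 1285))
 (.leaf (nat_lit 0x80940461b) (nat_lit 1029))
)) (.node (nat_lit 0x809484050) (.leaf (nat_lit 0x809484042) (nat_lit 1284))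
 (.node (nat_lit 0x809484202) (.leaf (nat_lit 0x809484050) (nat_lit 1284))
 (.leaf (nat_lit 0x809484202) (nat_lit 1284))
))) (.node (nat_lit 0x80948468b) (.node (nat_lit 0x8094844cb) (.leaf (nat_lit 0x809484210) (nat_lit 1284))
 (.node (nat_lit 0x8094844d9) (.leaf (nat_lit 0x8094844cb) (nat_lit 1541))
 (.leaf (nat_lit 0x8094844d9) (nat_lit 1541))
)) (.node (nat_lit 0x809484699) (.leaf (nat_lit 0x80948468b) (nat_lit 1541))
 (.node (nat_lit 0x8096440c2) (.leaf (nat_lit 0x809484699) (nat_lit 1541))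
 (.leaf (nat_lit 0x8096440c2) (nat_lit 1537))
)))))) (.node (nat_lit 0x80a0842d3) (.node (nat_lit 0x8096c444b) (.node (nat_lit 0x80964468b) (.node (nat_lit 0x80964429b) (.node (nat_lit 0x809644282) (.leaf (nat_lit 0x8096440db) (nat_lit 1536))
 (.leaf (nat_lit 0x809644282) (nat_lit 1794))
) (.node (nat_lit 0x8096444cb) (.leaf (nat_lit 0x80964429b) (nat_lit 1536))
 (.node (nat_lit 0x8096444d2) (.leaf (nat_lit 0x8096444cb) (nat_lit 1537))
 (.leaf (nat_lit 0x8096444d2) (nat_lit 1281))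
))) (.node (nat_lit 0x8096c40d9) (.node (nat_lit 0x809644692) (.leaf (nat_lit 0x80964468b) (nat_lit 1793))
 (.node (nat_lit 0x8096c40c2) (.leaf (nat_lit 0x809644692) (nat_lit 1539))
 (.leaf (nat_lit 0x8096c40c2) (nat_lit 1792))
)) (.node (nat_lit 0x8096c4282) (.leaf (nat_lit 0x8096c40d9) (nat_lit 1541))
 (.node (nat_lit 0x8096c4299) (.leaf (nat_lit 0x8096c4282) (nat_lit 1792))
 (.leaf (nat_lit 0x8096c4299) (nat_lit 1541))
)))) (.node (nat_lit 0x80a084053) (.node (nat_lit 0x8096c460b) (.node (nat_lit 0x8096c4450) (.leaf (nat_lit 0x8096c444b) (nat_lit 1280))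
 (.leaf (nat_lit 0x8096c4450) (nat_lit 1538))
) (.node (nat_lit 0x8096c4610) (.leaf (nat_lit 0x8096c460b) (nat_lit 1280))
 (.node (nat_lit 0x80a084051) (.leaf (nat_lit 0x8096c4610) (nat_lit 1538))
 (.leaf (nat_lit 0x80a084051) (nat_lit 1539))
))) (.node (nat_lit 0x80a084259) (.node (nat_lit 0x80a0840d9) (.leaf (nat_lit 0x80a084053) (nat_lit 1795))
 (.node (nat_lit 0x80a0840db) (.leaf (nat_lit 0x80a0840d9) (nat_lit 1541))
 (.leaf (nat_lit 0x80a0840db) (nat_lit 1536))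
)) (.node (nat_lit 0x80a08425b) (.leaf (nat_lit 0x80a084259) (nat_lit 1793))
 (.node (nat_lit 0x80a0842d1) (.leaf (nat_lit 0x80a08425b) (nat_lit 1536))
 (.leaf (nat_lit 0x80a0842d1) (nat_lit 1281))
))))) (.node (nat_lit 0x80a4442c2) (.node (nat_lit 0x80a204613) (.node (nat_lit 0x80a204419) (.node (nat_lit 0x80a204411) (.leaf (nat_lit 0x80a0842d3) (nat_lit 1537))
 (.leaf (nat_lit 0x80a204411) (nat_lit 1025))
) (.node (nat_lit 0x80a204493) (.leaf (nat_lit 0x80a204419) (nat_lit 769))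
 (.node (nat_lit 0x80a20449b) (.leaf (nat_lit 0x80a204493) (nat_lit 1285))
 (.leaf (nat_lit 0x80a20449b) (nat_lit 1029))
))) (.node (nat_lit 0x80a204699) (.node (nat_lit 0x80a20461b) (.leaf (nat_lit 0x80a204613) (nat_lit 1281))
 (.node (nat_lit 0x80a204691) (.leaf (nat_lit 0x80a20461b) (nat_lit 1025))
 (.leaf (nat_lit 0x80a204691) (nat_lit 1025))
)) (.node (nat_lit 0x80a444042) (.leaf (nat_lit 0x80a204699) (nat_lit 769))
 (.node (nat_lit 0x80a444053) (.leaf (nat_lit 0x80a444042) (nat_lit 1541))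
 (.leaf (nat_lit 0x80a444053) (nat_lit 1541))
)))) (.node (nat_lit 0x80a4c4042) (.node (nat_lit 0x80a444419) (.node (nat_lit 0x80a4442d3) (.leaf (nat_lit 0x80a4442c2) (nat_lit 1541))
 (.node (nat_lit 0x80a444408) (.leaf (nat_lit 0x80a4442d3) (nat_lit 1537))
 (.leaf (nat_lit 0x80a444408) (nat_lit 1281))
)) (.node (nat_lit 0x80a444688) (.leaf (nat_lit 0x80a444419) (nat_lit 1281))
 (.node (nat_lit 0x80a444699) (.leaf (nat_lit 0x80a444688) (nat_lit 1281))
 (.leaf (nat_lit 0x80a444699) (nat_lit 1281))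
))) (.node (nat_lit 0x80a4c42d1) (.node (nat_lit 0x80a4c4051) (.leaf (nat_lit 0x80a4c4042) (nat_lit 1797))
 (.node (nat_lit 0x80a4c42c2) (.leaf (nat_lit 0x80a4c4051) (nat_lit 1795))
 (.leaf (nat_lit 0x80a4c42c2) (nat_lit 1793))
)) (.node (nat_lit 0x80a4c4488) (.leaf (nat_lit 0x80a4c42d1) (nat_lit 1537))
 (.node (nat_lit 0x80a4c449b) (.leaf (nat_lit 0x80a4c4488) (nat_lit 1536))
 (.leaf (nat_lit 0x80a4c449b) (nat_lit 1536))
))))))) (.node (nat_lit 0x80b4c4291) (.node (nat_lit 0x80b084218) (.node (nat_lit 0x80a6c40d9) (.node (nat_lit 0x80a64425b) (.node (nat_lit 0x80a6440c2) (.node (nat_lit 0x80a4c461b) (.leaf (nat_lit 0x80a4c4608) (nat_lit 1537))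
 (.leaf (nat_lit 0x80a4c461b) (nat_lit 1537))
) (.node (nat_lit 0x80a6440db) (.leaf (nat_lit 0x80a6440c2) (nat_lit 1285))
 (.node (nat_lit 0x80a644242) (.leaf (nat_lit 0x80a6440db) (nat_lit 1541))
 (.leaf (nat_lit 0x80a644242) (nat_lit 1285))
))) (.node (nat_lit 0x80a644688) (.node (nat_lit 0x80a644408) (.leaf (nat_lit 0x80a64425b) (nat_lit 1541))
 (.node (nat_lit 0x80a644411) (.leaf (nat_lit 0x80a644408) (nat_lit 1282))
 (.leaf (nat_lit 0x80a644411) (nat_lit 1025))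
)) (.node (nat_lit 0x80a644691) (.leaf (nat_lit 0x80a644688) (nat_lit 1282))
 (.node (nat_lit 0x80a6c40c2) (.leaf (nat_lit 0x80a644691) (nat_lit 1025))
 (.leaf (nat_lit 0x80a6c40c2) (nat_lit 1541))
)))) (.node (nat_lit 0x80a6c4608) (.node (nat_lit 0x80a6c4259) (.node (nat_lit 0x80a6c4242) (.leaf (nat_lit 0x80a6c40d9) (nat_lit 1793))
 (.leaf (nat_lit 0x80a6c4242) (nat_lit 1541))
) (.node (nat_lit 0x80a6c4488) (.leaf (nat_lit 0x80a6c4259) (nat_lit 1797))
 (.node (nat_lit 0x80a6c4493) (.leaf (nat_lit 0x80a6c4488) (nat_lit 1538))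
 (.leaf (nat_lit 0x80a6c4493) (nat_lit 1280))
))) (.node (nat_lit 0x80b084053) (.node (nat_lit 0x80a6c4613) (.leaf (nat_lit 0x80a6c4608) (nat_lit 1538))
 (.node (nat_lit 0x80b084051) (.leaf (nat_lit 0x80a6c4613) (nat_lit 1281))
 (.leaf (nat_lit 0x80b084051) (nat_lit 1537))
)) (.node (nat_lit 0x80b0840d8) (.leaf (nat_lit 0x80b084053) (nat_lit 1793))
 (.node (nat_lit 0x80b0840da) (.leaf (nat_lit 0x80b0840d8) (nat_lit 1025))
 (.leaf (nat_lit 0x80b0840da) (nat_lit 1281))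
))))) (.node (nat_lit 0x80b2446d8) (.node (nat_lit 0x80b244418) (.node (nat_lit 0x80b084291) (.node (nat_lit 0x80b08421a) (.leaf (nat_lit 0x80b084218) (nat_lit 1283))
 (.leaf (nat_lit 0x80b08421a) (nat_lit 1539))
) (.node (nat_lit 0x80b084293) (.leaf (nat_lit 0x80b084291) (nat_lit 1285))
 (.node (nat_lit 0x80b244411) (.leaf (nat_lit 0x80b084293) (nat_lit 1541))
 (.leaf (nat_lit 0x80b244411) (nat_lit 1281))
))) (.node (nat_lit 0x80b244653) (.node (nat_lit 0x80b244493) (.leaf (nat_lit 0x80b244418) (nat_lit 1281))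
 (.node (nat_lit 0x80b24449a) (.leaf (nat_lit 0x80b244493) (nat_lit 1541))
 (.leaf (nat_lit 0x80b24449a) (nat_lit 1541))
)) (.node (nat_lit 0x80b24465a) (.leaf (nat_lit 0x80b244653) (nat_lit 1537))
 (.node (nat_lit 0x80b2446d1) (.leaf (nat_lit 0x80b24465a) (nat_lit 1537))
 (.leaf (nat_lit 0x80b2446d1) (nat_lit 1281))
)))) (.node (nat_lit 0x80b444418) (.node (nat_lit 0x80b444282) (.node (nat_lit 0x80b444042) (.leaf (nat_lit 0x80b2446d8) (nat_lit 1281))
 (.node (nat_lit 0x80b444053) (.leaf (nat_lit 0x80b444042) (nat_lit 1797))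
 (.leaf (nat_lit 0x80b444053) (nat_lit 1793))
)) (.node (nat_lit 0x80b444293) (.leaf (nat_lit 0x80b444282) (nat_lit 1797))
 (.node (nat_lit 0x80b444409) (.leaf (nat_lit 0x80b444293) (nat_lit 1536))
 (.leaf (nat_lit 0x80b444409) (nat_lit 1537))
))) (.node (nat_lit 0x80b4c4042) (.node (nat_lit 0x80b4446c9) (.leaf (nat_lit 0x80b444418) (nat_lit 1537))
 (.node (nat_lit 0x80b4446d8) (.leaf (nat_lit 0x80b4446c9) (nat_lit 1537))
 (.leaf (nat_lit 0x80b4446d8) (nat_lit 1537))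
)) (.node (nat_lit 0x80b4c4051) (.leaf (nat_lit 0x80b4c4042) (nat_lit 2053))
 (.node (nat_lit 0x80b4c4282) (.leaf (nat_lit 0x80b4c4051) (nat_lit 1793))
 (.leaf (nat_lit 0x80b4c4282) (nat_lit 1792))
)))))) (.node (nat_lit 0x810044089) (.node (nat_lit 0x80b6046c9) (.node (nat_lit 0x80b6040c2) (.node (nat_lit 0x80b4c449a) (.node (nat_lit 0x80b4c4489) (.leaf (nat_lit 0x80b4c4291) (nat_lit 1793))
 (.leaf (nat_lit 0x80b4c4489) (nat_lit 2050))
) (.node (nat_lit 0x80b4c4649) (.leaf (nat_lit 0x80b4c449a) (nat_lit 1792))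
 (.node (nat_lit 0x80b4c465a) (.leaf (nat_lit 0x80b4c4649) (nat_lit 1793))
 (.leaf (nat_lit 0x80b4c465a) (nat_lit 1793))
))) (.node (nat_lit 0x80b60421a) (.node (nat_lit 0x80b6040da) (.leaf (nat_lit 0x80b6040c2) (nat_lit 1538))
 (.node (nat_lit 0x80b604202) (.leaf (nat_lit 0x80b6040da) (nat_lit 1281))
 (.leaf (nat_lit 0x80b604202) (nat_lit 1797))
)) (.node (nat_lit 0x80b604409) (.leaf (nat_lit 0x80b60421a) (nat_lit 1539))
 (.node (nat_lit 0x80b604411) (.leaf (nat_lit 0x80b604409) (nat_lit 1541))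
 (.leaf (nat_lit 0x80b604411) (nat_lit 1537))
)))) (.node (nat_lit 0x80b684218) (.node (nat_lit 0x80b6840c2) (.node (nat_lit 0x80b6046d1) (.leaf (nat_lit 0x80b6046c9) (nat_lit 1793))
 (.leaf (nat_lit 0x80b6046d1) (nat_lit 1537))
) (.node (nat_lit 0x80b6840d8) (.leaf (nat_lit 0x80b6840c2) (nat_lit 1537))
 (.node (nat_lit 0x80b684202) (.leaf (nat_lit 0x80b6840d8) (nat_lit 1281))
 (.leaf (nat_lit 0x80b684202) (nat_lit 1795))
))) (.node (nat_lit 0x80b684649) (.node (nat_lit 0x80b684489) (.leaf (nat_lit 0x80b684218) (nat_lit 1539))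
 (.node (nat_lit 0x80b684493) (.leaf (nat_lit 0x80b684489) (nat_lit 1541))
 (.leaf (nat_lit 0x80b684493) (nat_lit 1797))
)) (.node (nat_lit 0x80b684653) (.leaf (nat_lit 0x80b684649) (nat_lit 1793))
 (.node (nat_lit 0x810044088) (.leaf (nat_lit 0x80b684653) (nat_lit 1793))
 (.leaf (nat_lit 0x810044088) (nat_lit 514))
))))) (.node (nat_lit 0x810204481) (.node (nat_lit 0x8100444d8) (.node (nat_lit 0x8100440d9) (.node (nat_lit 0x8100440d8) (.leaf (nat_lit 0x810044089) (nat_lit 256))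
 (.leaf (nat_lit 0x8100440d8) (nat_lit 773))
) (.node (nat_lit 0x810044488) (.leaf (nat_lit 0x8100440d9) (nat_lit 1029))
 (.node (nat_lit 0x810044489) (.leaf (nat_lit 0x810044488) (nat_lit 771))
 (.leaf (nat_lit 0x810044489) (nat_lit 515))
))) (.node (nat_lit 0x810204089) (.node (nat_lit 0x8100444d9) (.leaf (nat_lit 0x8100444d8) (nat_lit 517))
 (.node (nat_lit 0x810204081) (.leaf (nat_lit 0x8100444d9) (nat_lit 773))
 (.leaf (nat_lit 0x810204081) (nat_lit 0))
)) (.node (nat_lit 0x810204291) (.leaf (nat_lit 0x810204089) (nat_lit 258))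
 (.node (nat_lit 0x810204299) (.leaf (nat_lit 0x810204291) (nat_lit 773))
 (.leaf (nat_lit 0x810204299) (nat_lit 517))
)))) (.node (nat_lit 0x8102442d1) (.node (nat_lit 0x810204699) (.node (nat_lit 0x810204489) (.leaf (nat_lit 0x810204481) (nat_lit 259))
 (.node (nat_lit 0x810204691) (.leaf (nat_lit 0x810204489) (nat_lit 515))
 (.leaf (nat_lit 0x810204691) (nat_lit 517))
)) (.node (nat_lit 0x810244081) (.leaf (nat_lit 0x810204699) (nat_lit 261))
 (.node (nat_lit 0x810244088) (.leaf (nat_lit 0x810244081) (nat_lit 512))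
 (.leaf (nat_lit 0x810244088) (nat_lit 512))
))) (.node (nat_lit 0x810244488) (.node (nat_lit 0x8102442d8) (.leaf (nat_lit 0x8102442d1) (nat_lit 1029))
 (.node (nat_lit 0x810244481) (.leaf (nat_lit 0x8102442d8) (nat_lit 1029))
 (.leaf (nat_lit 0x810244481) (nat_lit 771))
)) (.node (nat_lit 0x8102446d1) (.leaf (nat_lit 0x810244488) (nat_lit 771))
 (.node (nat_lit 0x8102446d8) (.leaf (nat_lit 0x8102446d1) (nat_lit 773))
 (.leaf (nat_lit 0x8102446d8) (nat_lit 773))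
))))))))) (.node (nat_lit 0x818204493) (.node (nat_lit 0x8122442d3) (.node (nat_lit 0x8112c44ca) (.node (nat_lit 0x810644688) (.node (nat_lit 0x8106042d1) (.node (nat_lit 0x810444699) (.node (nat_lit 0x8104442c9) (.node (nat_lit 0x810444299) (.leaf (nat_lit 0x810444288) (nat_lit 1024))
 (.leaf (nat_lit 0x810444299) (nat_lit 1024))
) (.node (nat_lit 0x8104442d8) (.leaf (nat_lit 0x8104442c9) (nat_lit 1285))
 (.node (nat_lit 0x810444688) (.leaf (nat_lit 0x8104442d8) (nat_lit 1280))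
 (.leaf (nat_lit 0x810444688) (nat_lit 768))
))) (.node (nat_lit 0x8106040c1) (.node (nat_lit 0x8104446c9) (.leaf (nat_lit 0x810444699) (nat_lit 768))
 (.node (nat_lit 0x8104446d8) (.leaf (nat_lit 0x8104446c9) (nat_lit 1029))
 (.leaf (nat_lit 0x8104446d8) (nat_lit 1024))
)) (.node (nat_lit 0x8106040d9) (.leaf (nat_lit 0x8106040c1) (nat_lit 1282))
 (.node (nat_lit 0x8106042c9) (.leaf (nat_lit 0x8106040d9) (nat_lit 1024))
 (.leaf (nat_lit 0x8106042c9) (nat_lit 1536))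
)))) (.node (nat_lit 0x8106440c1) (.node (nat_lit 0x8106044d9) (.node (nat_lit 0x8106044c1) (.leaf (nat_lit 0x8106042d1) (nat_lit 1285))
 (.leaf (nat_lit 0x8106044c1) (nat_lit 1026))
) (.node (nat_lit 0x8106046c9) (.leaf (nat_lit 0x8106044d9) (nat_lit 768))
 (.node (nat_lit 0x8106046d1) (.leaf (nat_lit 0x8106046c9) (nat_lit 1280))
 (.leaf (nat_lit 0x8106046d1) (nat_lit 1029))
))) (.node (nat_lit 0x810644291) (.node (nat_lit 0x8106440d8) (.leaf (nat_lit 0x8106440c1) (nat_lit 1280))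
 (.node (nat_lit 0x810644288) (.leaf (nat_lit 0x8106440d8) (nat_lit 1029))
 (.leaf (nat_lit 0x810644288) (nat_lit 1026))
)) (.node (nat_lit 0x8106444c1) (.leaf (nat_lit 0x810644291) (nat_lit 768))
 (.node (nat_lit 0x8106444d8) (.leaf (nat_lit 0x8106444c1) (nat_lit 1024))
 (.leaf (nat_lit 0x8106444d8) (nat_lit 773))
))))) (.node (nat_lit 0x81128408b) (.node (nat_lit 0x8110440db) (.node (nat_lit 0x81104408a) (.node (nat_lit 0x810644691) (.leaf (nat_lit 0x810644688) (nat_lit 770))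
 (.leaf (nat_lit 0x810644691) (nat_lit 512))
) (.node (nat_lit 0x81104408b) (.leaf (nat_lit 0x81104408a) (nat_lit 1283))
 (.node (nat_lit 0x8110440da) (.leaf (nat_lit 0x81104408b) (nat_lit 1539))
 (.leaf (nat_lit 0x8110440da) (nat_lit 1285))
))) (.node (nat_lit 0x8110444ca) (.node (nat_lit 0x81104449a) (.leaf (nat_lit 0x8110440db) (nat_lit 1541))
 (.node (nat_lit 0x81104449b) (.leaf (nat_lit 0x81104449a) (nat_lit 1537))
 (.leaf (nat_lit 0x81104449b) (nat_lit 1793))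
)) (.node (nat_lit 0x8110444cb) (.leaf (nat_lit 0x8110444ca) (nat_lit 1025))
 (.node (nat_lit 0x811284081) (.leaf (nat_lit 0x8110444cb) (nat_lit 1281))
 (.leaf (nat_lit 0x811284081) (nat_lit 1795))
)))) (.node (nat_lit 0x81128465a) (.node (nat_lit 0x8112844c1) (.node (nat_lit 0x811284210) (.leaf (nat_lit 0x81128408b) (nat_lit 1539))
 (.node (nat_lit 0x81128421a) (.leaf (nat_lit 0x811284210) (nat_lit 1541))
 (.leaf (nat_lit 0x81128421a) (nat_lit 1537))
)) (.node (nat_lit 0x8112844cb) (.leaf (nat_lit 0x8112844c1) (nat_lit 1538))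
 (.node (nat_lit 0x811284650) (.leaf (nat_lit 0x8112844cb) (nat_lit 1281))
 (.leaf (nat_lit 0x811284650) (nat_lit 1537))
))) (.node (nat_lit 0x8112c4250) (.node (nat_lit 0x8112c4081) (.leaf (nat_lit 0x81128465a) (nat_lit 1537))
 (.node (nat_lit 0x8112c408a) (.leaf (nat_lit 0x8112c4081) (nat_lit 1795))
 (.leaf (nat_lit 0x8112c408a) (nat_lit 1539))
)) (.node (nat_lit 0x8112c425b) (.leaf (nat_lit 0x8112c4250) (nat_lit 1541))
 (.node (nat_lit 0x8112c44c1) (.leaf (nat_lit 0x8112c425b) (nat_lit 1797))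
 (.leaf (nat_lit 0x8112c44c1) (nat_lit 1537))
)))))) (.node (nat_lit 0x8116c4250) (.node (nat_lit 0x8116840c1) (.node (nat_lit 0x81140424b) (.node (nat_lit 0x8112c461b) (.node (nat_lit 0x8112c4610) (.leaf (nat_lit 0x8112c44ca) (nat_lit 1281))
 (.leaf (nat_lit 0x8112c4610) (nat_lit 1793))
) (.node (nat_lit 0x81140420a) (.leaf (nat_lit 0x8112c461b) (nat_lit 1793))
 (.node (nat_lit 0x81140421a) (.leaf (nat_lit 0x81140420a) (nat_lit 1281))
 (.leaf (nat_lit 0x81140421a) (nat_lit 1025))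
))) (.node (nat_lit 0x81140461b) (.node (nat_lit 0x81140425b) (.leaf (nat_lit 0x81140424b) (nat_lit 1541))
 (.node (nat_lit 0x81140460b) (.leaf (nat_lit 0x81140425b) (nat_lit 1285))
 (.leaf (nat_lit 0x81140460b) (nat_lit 1537))
)) (.node (nat_lit 0x81140464a) (.leaf (nat_lit 0x81140461b) (nat_lit 1281))
 (.node (nat_lit 0x81140465a) (.leaf (nat_lit 0x81140464a) (nat_lit 1281))
 (.leaf (nat_lit 0x81140465a) (nat_lit 1025))
)))) (.node (nat_lit 0x81168449b) (.node (nat_lit 0x81168420a) (.node (nat_lit 0x8116840db) (.leaf (nat_lit 0x8116840c1) (nat_lit 1541))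
 (.leaf (nat_lit 0x8116840db) (nat_lit 1536))
) (.node (nat_lit 0x811684210) (.leaf (nat_lit 0x81168420a) (nat_lit 1281))
 (.node (nat_lit 0x811684481) (.leaf (nat_lit 0x811684210) (nat_lit 1538))
 (.leaf (nat_lit 0x811684481) (nat_lit 1541))
))) (.node (nat_lit 0x8116c40c1) (.node (nat_lit 0x81168464a) (.leaf (nat_lit 0x81168449b) (nat_lit 1793))
 (.node (nat_lit 0x811684650) (.leaf (nat_lit 0x81168464a) (nat_lit 1281))
 (.leaf (nat_lit 0x811684650) (nat_lit 1538))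
)) (.node (nat_lit 0x8116c40da) (.leaf (nat_lit 0x8116c40c1) (nat_lit 1792))
 (.node (nat_lit 0x8116c424b) (.leaf (nat_lit 0x8116c40da) (nat_lit 1537))
 (.leaf (nat_lit 0x8116c424b) (nat_lit 1536))
))))) (.node (nat_lit 0x81204445a) (.node (nat_lit 0x812044088) (.node (nat_lit 0x8116c449a) (.node (nat_lit 0x8116c4481) (.leaf (nat_lit 0x8116c4250) (nat_lit 1797))
 (.leaf (nat_lit 0x8116c4481) (nat_lit 1797))
) (.node (nat_lit 0x8116c460b) (.leaf (nat_lit 0x8116c449a) (nat_lit 1793))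
 (.node (nat_lit 0x8116c4610) (.leaf (nat_lit 0x8116c460b) (nat_lit 1537))
 (.leaf (nat_lit 0x8116c4610) (nat_lit 1794))
))) (.node (nat_lit 0x8120440db) (.node (nat_lit 0x812044089) (.leaf (nat_lit 0x812044088) (nat_lit 1025))
 (.node (nat_lit 0x8120440da) (.leaf (nat_lit 0x812044089) (nat_lit 769))
 (.leaf (nat_lit 0x8120440da) (nat_lit 1029))
)) (.node (nat_lit 0x812044408) (.leaf (nat_lit 0x8120440db) (nat_lit 1285))
 (.node (nat_lit 0x812044409) (.leaf (nat_lit 0x812044408) (nat_lit 1026))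
 (.leaf (nat_lit 0x812044409) (nat_lit 769))
)))) (.node (nat_lit 0x812204401) (.node (nat_lit 0x812204089) (.node (nat_lit 0x81204445b) (.leaf (nat_lit 0x81204445a) (nat_lit 1029))
 (.node (nat_lit 0x812204081) (.leaf (nat_lit 0x81204445b) (nat_lit 1285))
 (.leaf (nat_lit 0x812204081) (nat_lit 513))
)) (.node (nat_lit 0x812204293) (.leaf (nat_lit 0x812204089) (nat_lit 769))
 (.node (nat_lit 0x81220429b) (.leaf (nat_lit 0x812204293) (nat_lit 1029))
 (.leaf (nat_lit 0x81220429b) (nat_lit 773))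
))) (.node (nat_lit 0x81220461b) (.node (nat_lit 0x812204409) (.leaf (nat_lit 0x812204401) (nat_lit 513))
 (.node (nat_lit 0x812204613) (.leaf (nat_lit 0x812204409) (nat_lit 770))
 (.leaf (nat_lit 0x812204613) (nat_lit 1029))
)) (.node (nat_lit 0x812244081) (.leaf (nat_lit 0x81220461b) (nat_lit 773))
 (.node (nat_lit 0x812244088) (.leaf (nat_lit 0x812244081) (nat_lit 1025))
 (.leaf (nat_lit 0x812244088) (nat_lit 1025))
))))))) (.node (nat_lit 0x8132846d8) (.node (nat_lit 0x8126c40c1) (.node (nat_lit 0x8124c461b) (.node (nat_lit 0x81224465a) (.node (nat_lit 0x812244401) (.node (nat_lit 0x8122442da) (.leaf (nat_lit 0x8122442d3) (nat_lit 1285))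
 (.leaf (nat_lit 0x8122442da) (nat_lit 1285))
) (.node (nat_lit 0x812244408) (.leaf (nat_lit 0x812244401) (nat_lit 1024))
 (.node (nat_lit 0x812244653) (.leaf (nat_lit 0x812244408) (nat_lit 1025))
 (.leaf (nat_lit 0x812244653) (nat_lit 1285))
))) (.node (nat_lit 0x8124c42c9) (.node (nat_lit 0x8124c4288) (.leaf (nat_lit 0x81224465a) (nat_lit 1285))
 (.node (nat_lit 0x8124c429b) (.leaf (nat_lit 0x8124c4288) (nat_lit 1280))
 (.leaf (nat_lit 0x8124c429b) (nat_lit 1280))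
)) (.node (nat_lit 0x8124c42da) (.leaf (nat_lit 0x8124c42c9) (nat_lit 1541))
 (.node (nat_lit 0x8124c4608) (.leaf (nat_lit 0x8124c42da) (nat_lit 1536))
 (.leaf (nat_lit 0x8124c4608) (nat_lit 1280))
)))) (.node (nat_lit 0x8126842c9) (.node (nat_lit 0x8124c465a) (.node (nat_lit 0x8124c4649) (.leaf (nat_lit 0x8124c461b) (nat_lit 1280))
 (.leaf (nat_lit 0x8124c4649) (nat_lit 1541))
) (.node (nat_lit 0x8126840c1) (.leaf (nat_lit 0x8124c465a) (nat_lit 1536))
 (.node (nat_lit 0x8126840db) (.leaf (nat_lit 0x8126840c1) (nat_lit 1538))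
 (.leaf (nat_lit 0x8126840db) (nat_lit 1280))
))) (.node (nat_lit 0x81268445b) (.node (nat_lit 0x8126842d3) (.leaf (nat_lit 0x8126842c9) (nat_lit 1537))
 (.node (nat_lit 0x812684441) (.leaf (nat_lit 0x8126842d3) (nat_lit 1541))
 (.leaf (nat_lit 0x812684441) (nat_lit 1538))
)) (.node (nat_lit 0x812684649) (.leaf (nat_lit 0x81268445b) (nat_lit 1280))
 (.node (nat_lit 0x812684653) (.leaf (nat_lit 0x812684649) (nat_lit 1792))
 (.leaf (nat_lit 0x812684653) (nat_lit 1541))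
))))) (.node (nat_lit 0x8130440d9) (.node (nat_lit 0x8126c445a) (.node (nat_lit 0x8126c4288) (.node (nat_lit 0x8126c40da) (.leaf (nat_lit 0x8126c40c1) (nat_lit 1536))
 (.leaf (nat_lit 0x8126c40da) (nat_lit 1285))
) (.node (nat_lit 0x8126c4293) (.leaf (nat_lit 0x8126c4288) (nat_lit 1282))
 (.node (nat_lit 0x8126c4441) (.leaf (nat_lit 0x8126c4293) (nat_lit 1024))
 (.leaf (nat_lit 0x8126c4441) (nat_lit 1536))
))) (.node (nat_lit 0x81304408a) (.node (nat_lit 0x8126c4608) (.leaf (nat_lit 0x8126c445a) (nat_lit 1285))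
 (.node (nat_lit 0x8126c4613) (.leaf (nat_lit 0x8126c4608) (nat_lit 1282))
 (.leaf (nat_lit 0x8126c4613) (nat_lit 1024))
)) (.node (nat_lit 0x81304408b) (.leaf (nat_lit 0x81304408a) (nat_lit 1281))
 (.node (nat_lit 0x8130440d8) (.leaf (nat_lit 0x81304408b) (nat_lit 1537))
 (.leaf (nat_lit 0x8130440d8) (nat_lit 769))
)))) (.node (nat_lit 0x81328408b) (.node (nat_lit 0x81304444a) (.node (nat_lit 0x813044418) (.leaf (nat_lit 0x8130440d9) (nat_lit 1025))
 (.node (nat_lit 0x813044419) (.leaf (nat_lit 0x813044418) (nat_lit 1027))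
 (.leaf (nat_lit 0x813044419) (nat_lit 1283))
)) (.node (nat_lit 0x81304444b) (.leaf (nat_lit 0x81304444a) (nat_lit 1029))
 (.node (nat_lit 0x813284081) (.leaf (nat_lit 0x81304444b) (nat_lit 1285))
 (.leaf (nat_lit 0x813284081) (nat_lit 1794))
))) (.node (nat_lit 0x813284441) (.node (nat_lit 0x813284212) (.leaf (nat_lit 0x81328408b) (nat_lit 1537))
 (.node (nat_lit 0x813284218) (.leaf (nat_lit 0x813284212) (nat_lit 1541))
 (.leaf (nat_lit 0x813284218) (nat_lit 1792))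
)) (.node (nat_lit 0x81328444b) (.leaf (nat_lit 0x813284441) (nat_lit 1538))
 (.node (nat_lit 0x8132846d2) (.leaf (nat_lit 0x81328444b) (nat_lit 1280))
 (.leaf (nat_lit 0x8132846d2) (nat_lit 1797))
)))))) (.node (nat_lit 0x813604419) (.node (nat_lit 0x81348424b) (.node (nat_lit 0x8132c4441) (.node (nat_lit 0x8132c408a) (.node (nat_lit 0x8132c4081) (.leaf (nat_lit 0x8132846d8) (nat_lit 1793))
 (.leaf (nat_lit 0x8132c4081) (nat_lit 1793))
) (.node (nat_lit 0x8132c4252) (.leaf (nat_lit 0x8132c408a) (nat_lit 1537))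
 (.node (nat_lit 0x8132c4259) (.leaf (nat_lit 0x8132c4252) (nat_lit 1797))
 (.leaf (nat_lit 0x8132c4259) (nat_lit 1797))
))) (.node (nat_lit 0x8132c4699) (.node (nat_lit 0x8132c444a) (.leaf (nat_lit 0x8132c4441) (nat_lit 1536))
 (.node (nat_lit 0x8132c4692) (.leaf (nat_lit 0x8132c444a) (nat_lit 1536))
 (.leaf (nat_lit 0x8132c4692) (nat_lit 1797))
)) (.node (nat_lit 0x81348420a) (.leaf (nat_lit 0x8132c4699) (nat_lit 2049))
 (.node (nat_lit 0x813484218) (.leaf (nat_lit 0x81348420a) (nat_lit 1536))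
 (.leaf (nat_lit 0x813484218) (nat_lit 1537))
)))) (.node (nat_lit 0x8134846d8) (.node (nat_lit 0x81348468b) (.node (nat_lit 0x813484259) (.leaf (nat_lit 0x81348424b) (nat_lit 1536))
 (.leaf (nat_lit 0x813484259) (nat_lit 1797))
) (.node (nat_lit 0x813484699) (.leaf (nat_lit 0x81348468b) (nat_lit 1793))
 (.node (nat_lit 0x8134846ca) (.leaf (nat_lit 0x813484699) (nat_lit 1793))
 (.leaf (nat_lit 0x8134846ca) (nat_lit 1537))
))) (.node (nat_lit 0x81360420a) (.node (nat_lit 0x8136040c1) (.leaf (nat_lit 0x8134846d8) (nat_lit 1537))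
 (.node (nat_lit 0x8136040d9) (.leaf (nat_lit 0x8136040c1) (nat_lit 1282))
 (.leaf (nat_lit 0x8136040d9) (nat_lit 1025))
)) (.node (nat_lit 0x813604212) (.leaf (nat_lit 0x81360420a) (nat_lit 1541))
 (.node (nat_lit 0x813604401) (.leaf (nat_lit 0x813604212) (nat_lit 1285))
 (.leaf (nat_lit 0x813604401) (nat_lit 1539))
))))) (.node (nat_lit 0x8180c4050) (.node (nat_lit 0x81364424b) (.node (nat_lit 0x8136046d2) (.node (nat_lit 0x8136046ca) (.leaf (nat_lit 0x813604419) (nat_lit 1283))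
 (.leaf (nat_lit 0x8136046ca) (nat_lit 1797))
) (.node (nat_lit 0x8136440c1) (.leaf (nat_lit 0x8136046d2) (nat_lit 1541))
 (.node (nat_lit 0x8136440d8) (.leaf (nat_lit 0x8136440c1) (nat_lit 1281))
 (.leaf (nat_lit 0x8136440d8) (nat_lit 1025))
))) (.node (nat_lit 0x813644418) (.node (nat_lit 0x813644252) (.leaf (nat_lit 0x81364424b) (nat_lit 1541))
 (.node (nat_lit 0x813644401) (.leaf (nat_lit 0x813644252) (nat_lit 1285))
 (.leaf (nat_lit 0x813644401) (nat_lit 1539))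
)) (.node (nat_lit 0x81364468b) (.leaf (nat_lit 0x813644418) (nat_lit 1283))
 (.node (nat_lit 0x813644692) (.leaf (nat_lit 0x81364468b) (nat_lit 1797))
 (.leaf (nat_lit 0x813644692) (nat_lit 1537))
)))) (.node (nat_lit 0x8180c4688) (.node (nat_lit 0x8180c408b) (.node (nat_lit 0x8180c4053) (.leaf (nat_lit 0x8180c4050) (nat_lit 1541))
 (.node (nat_lit 0x8180c4088) (.leaf (nat_lit 0x8180c4053) (nat_lit 1541))
 (.leaf (nat_lit 0x8180c4088) (nat_lit 1539))
)) (.node (nat_lit 0x8180c4650) (.leaf (nat_lit 0x8180c408b) (nat_lit 1539))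
 (.node (nat_lit 0x8180c4653) (.leaf (nat_lit 0x8180c4650) (nat_lit 1537))
 (.leaf (nat_lit 0x8180c4653) (nat_lit 1537))
))) (.node (nat_lit 0x81820408b) (.node (nat_lit 0x8180c468b) (.leaf (nat_lit 0x8180c4688) (nat_lit 1281))
 (.node (nat_lit 0x818204083) (.leaf (nat_lit 0x8180c468b) (nat_lit 1281))
 (.leaf (nat_lit 0x818204083) (nat_lit 1283))
)) (.node (nat_lit 0x818204293) (.leaf (nat_lit 0x81820408b) (nat_lit 1027))
 (.node (nat_lit 0x81820429b) (.leaf (nat_lit 0x818204293) (nat_lit 1285))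
 (.leaf (nat_lit 0x81820429b) (nat_lit 1029))
)))))))) (.node (nat_lit 0x81a0c46d1) (.node (nat_lit 0x81924408a) (.node (nat_lit 0x8184c4288) (.node (nat_lit 0x8182c4688) (.node (nat_lit 0x8182c4088) (.node (nat_lit 0x818204683) (.node (nat_lit 0x81820449b) (.leaf (nat_lit 0x818204493) (nat_lit 1537))
 (.leaf (nat_lit 0x81820449b) (nat_lit 1281))
) (.node (nat_lit 0x81820468b) (.leaf (nat_lit 0x818204683) (nat_lit 1025))
 (.node (nat_lit 0x8182c4083) (.leaf (nat_lit 0x81820468b) (nat_lit 769))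
 (.leaf (nat_lit 0x8182c4083) (nat_lit 1283))
))) (.node (nat_lit 0x8182c4450) (.node (nat_lit 0x8182c4250) (.leaf (nat_lit 0x8182c4088) (nat_lit 1539))
 (.node (nat_lit 0x8182c425b) (.leaf (nat_lit 0x8182c4250) (nat_lit 1285))
 (.leaf (nat_lit 0x8182c425b) (nat_lit 1541))
)) (.node (nat_lit 0x8182c445b) (.leaf (nat_lit 0x8182c4450) (nat_lit 1541))
 (.node (nat_lit 0x8182c4683) (.leaf (nat_lit 0x8182c445b) (nat_lit 1792))
 (.leaf (nat_lit 0x8182c4683) (nat_lit 1025))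
)))) (.node (nat_lit 0x81840444b) (.node (nat_lit 0x818404053) (.node (nat_lit 0x818404043) (.leaf (nat_lit 0x8182c4688) (nat_lit 1282))
 (.leaf (nat_lit 0x818404043) (nat_lit 1539))
) (.node (nat_lit 0x81840424b) (.leaf (nat_lit 0x818404053) (nat_lit 1283))
 (.node (nat_lit 0x81840425b) (.leaf (nat_lit 0x81840424b) (nat_lit 1793))
 (.leaf (nat_lit 0x81840425b) (nat_lit 1537))
))) (.node (nat_lit 0x818404653) (.node (nat_lit 0x81840445b) (.leaf (nat_lit 0x81840444b) (nat_lit 1541))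
 (.node (nat_lit 0x818404643) (.leaf (nat_lit 0x81840445b) (nat_lit 1285))
 (.leaf (nat_lit 0x818404643) (nat_lit 1281))
)) (.node (nat_lit 0x8184c4043) (.leaf (nat_lit 0x818404653) (nat_lit 1025))
 (.node (nat_lit 0x8184c4050) (.leaf (nat_lit 0x8184c4043) (nat_lit 1539))
 (.leaf (nat_lit 0x8184c4050) (nat_lit 1795))
))))) (.node (nat_lit 0x8186c4450) (.node (nat_lit 0x8184c4650) (.node (nat_lit 0x8184c4488) (.node (nat_lit 0x8184c429b) (.leaf (nat_lit 0x8184c4288) (nat_lit 1536))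
 (.leaf (nat_lit 0x8184c429b) (nat_lit 1536))
) (.node (nat_lit 0x8184c449b) (.leaf (nat_lit 0x8184c4488) (nat_lit 1541))
 (.node (nat_lit 0x8184c4643) (.leaf (nat_lit 0x8184c449b) (nat_lit 1797))
 (.leaf (nat_lit 0x8184c4643) (nat_lit 1281))
))) (.node (nat_lit 0x8186c4288) (.node (nat_lit 0x8186c424b) (.leaf (nat_lit 0x8184c4650) (nat_lit 1538))
 (.node (nat_lit 0x8186c4250) (.leaf (nat_lit 0x8186c424b) (nat_lit 1793))
 (.leaf (nat_lit 0x8186c4250) (nat_lit 1541))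
)) (.node (nat_lit 0x8186c4293) (.leaf (nat_lit 0x8186c4288) (nat_lit 1538))
 (.node (nat_lit 0x8186c444b) (.leaf (nat_lit 0x8186c4293) (nat_lit 1280))
 (.leaf (nat_lit 0x8186c444b) (nat_lit 1536))
)))) (.node (nat_lit 0x8190c408a) (.node (nat_lit 0x8190c4050) (.node (nat_lit 0x8186c4488) (.leaf (nat_lit 0x8186c4450) (nat_lit 1794))
 (.node (nat_lit 0x8186c4493) (.leaf (nat_lit 0x8186c4488) (nat_lit 1797))
 (.leaf (nat_lit 0x8186c4493) (nat_lit 1537))
)) (.node (nat_lit 0x8190c4053) (.leaf (nat_lit 0x8190c4050) (nat_lit 1797))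
 (.node (nat_lit 0x8190c4089) (.leaf (nat_lit 0x8190c4053) (nat_lit 1793))
 (.leaf (nat_lit 0x8190c4089) (nat_lit 1795))
))) (.node (nat_lit 0x8190c46c9) (.node (nat_lit 0x8190c4610) (.leaf (nat_lit 0x8190c408a) (nat_lit 1795))
 (.node (nat_lit 0x8190c4613) (.leaf (nat_lit 0x8190c4610) (nat_lit 1536))
 (.leaf (nat_lit 0x8190c4613) (nat_lit 1536))
)) (.node (nat_lit 0x8190c46ca) (.leaf (nat_lit 0x8190c46c9) (nat_lit 1537))
 (.node (nat_lit 0x819244083) (.leaf (nat_lit 0x8190c46ca) (nat_lit 1537))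
 (.leaf (nat_lit 0x819244083) (nat_lit 1539))
)))))) (.node (nat_lit 0x819404613) (.node (nat_lit 0x819284450) (.node (nat_lit 0x8192446c3) (.node (nat_lit 0x8192442da) (.node (nat_lit 0x8192442d3) (.leaf (nat_lit 0x81924408a) (nat_lit 1539))
 (.leaf (nat_lit 0x8192442d3) (nat_lit 1541))
) (.node (nat_lit 0x819244493) (.leaf (nat_lit 0x8192442da) (nat_lit 1541))
 (.node (nat_lit 0x81924449a) (.leaf (nat_lit 0x819244493) (nat_lit 1536))
 (.leaf (nat_lit 0x81924449a) (nat_lit 1793))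
))) (.node (nat_lit 0x819284089) (.node (nat_lit 0x8192446ca) (.leaf (nat_lit 0x8192446c3) (nat_lit 1281))
 (.node (nat_lit 0x819284083) (.leaf (nat_lit 0x8192446ca) (nat_lit 1281))
 (.leaf (nat_lit 0x819284083) (nat_lit 1541))
)) (.node (nat_lit 0x819284210) (.leaf (nat_lit 0x819284089) (nat_lit 1541))
 (.node (nat_lit 0x81928421a) (.leaf (nat_lit 0x819284210) (nat_lit 1539))
 (.leaf (nat_lit 0x81928421a) (nat_lit 1539))
)))) (.node (nat_lit 0x819404053) (.node (nat_lit 0x8192846c3) (.node (nat_lit 0x81928445a) (.leaf (nat_lit 0x819284450) (nat_lit 1281))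
 (.leaf (nat_lit 0x81928445a) (nat_lit 1281))
) (.node (nat_lit 0x8192846c9) (.leaf (nat_lit 0x8192846c3) (nat_lit 1537))
 (.node (nat_lit 0x819404043) (.leaf (nat_lit 0x8192846c9) (nat_lit 1793))
 (.leaf (nat_lit 0x819404043) (nat_lit 1537))
))) (.node (nat_lit 0x81940444a) (.node (nat_lit 0x81940420a) (.leaf (nat_lit 0x819404053) (nat_lit 1281))
 (.node (nat_lit 0x81940421a) (.leaf (nat_lit 0x81940420a) (nat_lit 1283))
 (.leaf (nat_lit 0x81940421a) (nat_lit 1027))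
)) (.node (nat_lit 0x81940445a) (.leaf (nat_lit 0x81940444a) (nat_lit 1025))
 (.node (nat_lit 0x819404603) (.leaf (nat_lit 0x81940445a) (nat_lit 769))
 (.leaf (nat_lit 0x819404603) (nat_lit 1285))
))))) (.node (nat_lit 0x8196842c9) (.node (nat_lit 0x8194c4489) (.node (nat_lit 0x8194c4050) (.node (nat_lit 0x8194c4043) (.leaf (nat_lit 0x819404613) (nat_lit 1029))
 (.leaf (nat_lit 0x8194c4043) (nat_lit 1537))
) (.node (nat_lit 0x8194c42c9) (.leaf (nat_lit 0x8194c4050) (nat_lit 1794))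
 (.node (nat_lit 0x8194c42da) (.leaf (nat_lit 0x8194c42c9) (nat_lit 1797))
 (.leaf (nat_lit 0x8194c42da) (nat_lit 1792))
))) (.node (nat_lit 0x8194c4610) (.node (nat_lit 0x8194c449a) (.leaf (nat_lit 0x8194c4489) (nat_lit 1541))
 (.node (nat_lit 0x8194c4603) (.leaf (nat_lit 0x8194c449a) (nat_lit 1792))
 (.leaf (nat_lit 0x8194c4603) (nat_lit 1280))
)) (.node (nat_lit 0x81968420a) (.leaf (nat_lit 0x8194c4610) (nat_lit 1538))
 (.node (nat_lit 0x819684210) (.leaf (nat_lit 0x81968420a) (nat_lit 1283))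
 (.leaf (nat_lit 0x819684210) (nat_lit 1539))
)))) (.node (nat_lit 0x81a0c4051) (.node (nat_lit 0x819684450) (.node (nat_lit 0x8196842d3) (.leaf (nat_lit 0x8196842c9) (nat_lit 1541))
 (.node (nat_lit 0x81968444a) (.leaf (nat_lit 0x8196842d3) (nat_lit 1793))
 (.leaf (nat_lit 0x81968444a) (nat_lit 1025))
)) (.node (nat_lit 0x819684489) (.leaf (nat_lit 0x819684450) (nat_lit 1282))
 (.node (nat_lit 0x819684493) (.leaf (nat_lit 0x819684489) (nat_lit 1285))
 (.leaf (nat_lit 0x819684493) (nat_lit 1541))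
))) (.node (nat_lit 0x81a0c408b) (.node (nat_lit 0x81a0c4052) (.leaf (nat_lit 0x81a0c4051) (nat_lit 1541))
 (.node (nat_lit 0x81a0c4088) (.leaf (nat_lit 0x81a0c4052) (nat_lit 1541))
 (.leaf (nat_lit 0x81a0c4088) (nat_lit 1537))
)) (.node (nat_lit 0x81a0c4608) (.leaf (nat_lit 0x81a0c408b) (nat_lit 1537))
 (.node (nat_lit 0x81a0c460b) (.leaf (nat_lit 0x81a0c4608) (nat_lit 1280))
 (.leaf (nat_lit 0x81a0c460b) (nat_lit 1280))
))))))) (.node (nat_lit 0x81b0c408a) (.node (nat_lit 0x81a444408) (.node (nat_lit 0x81a2c4088) (.node (nat_lit 0x81a204299) (.node (nat_lit 0x81a204083) (.node (nat_lit 0x81a0c46d2) (.leaf (nat_lit 0x81a0c46d1) (nat_lit 1793))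
 (.leaf (nat_lit 0x81a0c46d2) (nat_lit 1793))
) (.node (nat_lit 0x81a20408b) (.leaf (nat_lit 0x81a204083) (nat_lit 1281))
 (.node (nat_lit 0x81a204291) (.leaf (nat_lit 0x81a20408b) (nat_lit 1025))
 (.leaf (nat_lit 0x81a204291) (nat_lit 769))
))) (.node (nat_lit 0x81a204603) (.node (nat_lit 0x81a204411) (.leaf (nat_lit 0x81a204299) (nat_lit 513))
 (.node (nat_lit 0x81a204419) (.leaf (nat_lit 0x81a204411) (nat_lit 1027))
 (.leaf (nat_lit 0x81a204419) (nat_lit 771))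
)) (.node (nat_lit 0x81a20460b) (.leaf (nat_lit 0x81a204603) (nat_lit 1029))
 (.node (nat_lit 0x81a2c4083) (.leaf (nat_lit 0x81a20460b) (nat_lit 773))
 (.leaf (nat_lit 0x81a2c4083) (nat_lit 1281))
)))) (.node (nat_lit 0x81a2c4603) (.node (nat_lit 0x81a2c4259) (.node (nat_lit 0x81a2c4252) (.leaf (nat_lit 0x81a2c4088) (nat_lit 1538))
 (.leaf (nat_lit 0x81a2c4252) (nat_lit 1285))
) (.node (nat_lit 0x81a2c44d2) (.leaf (nat_lit 0x81a2c4259) (nat_lit 1536))
 (.node (nat_lit 0x81a2c44d9) (.leaf (nat_lit 0x81a2c44d2) (nat_lit 1541))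
 (.leaf (nat_lit 0x81a2c44d9) (nat_lit 1797))
))) (.node (nat_lit 0x81a444052) (.node (nat_lit 0x81a2c4608) (.leaf (nat_lit 0x81a2c4603) (nat_lit 1024))
 (.node (nat_lit 0x81a444043) (.leaf (nat_lit 0x81a2c4608) (nat_lit 1282))
 (.leaf (nat_lit 0x81a444043) (nat_lit 1285))
)) (.node (nat_lit 0x81a444288) (.leaf (nat_lit 0x81a444052) (nat_lit 1285))
 (.node (nat_lit 0x81a444299) (.leaf (nat_lit 0x81a444288) (nat_lit 1025))
 (.leaf (nat_lit 0x81a444299) (nat_lit 1025))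
))))) (.node (nat_lit 0x81a4846d1) (.node (nat_lit 0x81a484051) (.node (nat_lit 0x81a4446c3) (.node (nat_lit 0x81a444419) (.leaf (nat_lit 0x81a444408) (nat_lit 1283))
 (.leaf (nat_lit 0x81a444419) (nat_lit 1283))
) (.node (nat_lit 0x81a4446d2) (.leaf (nat_lit 0x81a4446c3) (nat_lit 1541))
 (.node (nat_lit 0x81a484043) (.leaf (nat_lit 0x81a4446d2) (nat_lit 1541))
 (.leaf (nat_lit 0x81a484043) (nat_lit 1536))
))) (.node (nat_lit 0x81a4844cb) (.node (nat_lit 0x81a48424b) (.leaf (nat_lit 0x81a484051) (nat_lit 1795))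
 (.node (nat_lit 0x81a484259) (.leaf (nat_lit 0x81a48424b) (nat_lit 1280))
 (.leaf (nat_lit 0x81a484259) (nat_lit 1538))
)) (.node (nat_lit 0x81a4844d9) (.leaf (nat_lit 0x81a4844cb) (nat_lit 1536))
 (.node (nat_lit 0x81a4846c3) (.leaf (nat_lit 0x81a4844d9) (nat_lit 1797))
 (.leaf (nat_lit 0x81a4846c3) (nat_lit 1537))
)))) (.node (nat_lit 0x81a644411) (.node (nat_lit 0x81a644288) (.node (nat_lit 0x81a64424b) (.leaf (nat_lit 0x81a4846d1) (nat_lit 1537))
 (.node (nat_lit 0x81a644252) (.leaf (nat_lit 0x81a64424b) (nat_lit 1285))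
 (.leaf (nat_lit 0x81a644252) (nat_lit 1029))
)) (.node (nat_lit 0x81a644291) (.leaf (nat_lit 0x81a644288) (nat_lit 1026))
 (.node (nat_lit 0x81a644408) (.leaf (nat_lit 0x81a644291) (nat_lit 769))
 (.leaf (nat_lit 0x81a644408) (nat_lit 1283))
))) (.node (nat_lit 0x81b0c4051) (.node (nat_lit 0x81a6444cb) (.leaf (nat_lit 0x81a644411) (nat_lit 1027))
 (.node (nat_lit 0x81a6444d2) (.leaf (nat_lit 0x81a6444cb) (nat_lit 1541))
 (.leaf (nat_lit 0x81a6444d2) (nat_lit 1285))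
)) (.node (nat_lit 0x81b0c4052) (.leaf (nat_lit 0x81b0c4051) (nat_lit 2048))
 (.node (nat_lit 0x81b0c4089) (.leaf (nat_lit 0x81b0c4052) (nat_lit 1797))
 (.leaf (nat_lit 0x81b0c4089) (nat_lit 1793))
)))))) (.node (nat_lit 0x81b444052) (.node (nat_lit 0x81b244643) (.node (nat_lit 0x81b244083) (.node (nat_lit 0x81b0c464a) (.node (nat_lit 0x81b0c4649) (.leaf (nat_lit 0x81b0c408a) (nat_lit 1793))
 (.leaf (nat_lit 0x81b0c4649) (nat_lit 1794))
) (.node (nat_lit 0x81b0c4691) (.leaf (nat_lit 0x81b0c464a) (nat_lit 1536))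
 (.node (nat_lit 0x81b0c4692) (.leaf (nat_lit 0x81b0c4691) (nat_lit 1792))
 (.leaf (nat_lit 0x81b0c4692) (nat_lit 2053))
))) (.node (nat_lit 0x81b2442d8) (.node (nat_lit 0x81b24408a) (.leaf (nat_lit 0x81b244083) (nat_lit 1537))
 (.node (nat_lit 0x81b2442d1) (.leaf (nat_lit 0x81b24408a) (nat_lit 1537))
 (.leaf (nat_lit 0x81b2442d1) (nat_lit 1025))
)) (.node (nat_lit 0x81b244411) (.leaf (nat_lit 0x81b2442d8) (nat_lit 1025))
 (.node (nat_lit 0x81b244418) (.leaf (nat_lit 0x81b244411) (nat_lit 1283))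
 (.leaf (nat_lit 0x81b244418) (nat_lit 1283))
)))) (.node (nat_lit 0x81b284218) (.node (nat_lit 0x81b284083) (.node (nat_lit 0x81b24464a) (.leaf (nat_lit 0x81b244643) (nat_lit 1285))
 (.leaf (nat_lit 0x81b24464a) (nat_lit 1285))
) (.node (nat_lit 0x81b284089) (.leaf (nat_lit 0x81b284083) (nat_lit 1793))
 (.node (nat_lit 0x81b284212) (.leaf (nat_lit 0x81b284089) (nat_lit 1797))
 (.leaf (nat_lit 0x81b284212) (nat_lit 1797))
))) (.node (nat_lit 0x81b284643) (.node (nat_lit 0x81b2844d2) (.leaf (nat_lit 0x81b284218) (nat_lit 1795))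
 (.node (nat_lit 0x81b2844d8) (.leaf (nat_lit 0x81b2844d2) (nat_lit 1537))
 (.leaf (nat_lit 0x81b2844d8) (nat_lit 1537))
)) (.node (nat_lit 0x81b284649) (.leaf (nat_lit 0x81b284643) (nat_lit 1536))
 (.node (nat_lit 0x81b444043) (.leaf (nat_lit 0x81b284649) (nat_lit 1792))
 (.leaf (nat_lit 0x81b444043) (nat_lit 1541))
))))) (.node (nat_lit 0x81b4844ca) (.node (nat_lit 0x81b444683) (.node (nat_lit 0x81b4442d8) (.node (nat_lit 0x81b4442c9) (.leaf (nat_lit 0x81b444052) (nat_lit 1541))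
 (.leaf (nat_lit 0x81b4442c9) (nat_lit 1281))
) (.node (nat_lit 0x81b444409) (.leaf (nat_lit 0x81b4442d8) (nat_lit 1281))
 (.node (nat_lit 0x81b444418) (.leaf (nat_lit 0x81b444409) (nat_lit 1539))
 (.leaf (nat_lit 0x81b444418) (nat_lit 1539))
))) (.node (nat_lit 0x81b484051) (.node (nat_lit 0x81b444692) (.leaf (nat_lit 0x81b444683) (nat_lit 1792))
 (.node (nat_lit 0x81b484043) (.leaf (nat_lit 0x81b444692) (nat_lit 1797))
 (.leaf (nat_lit 0x81b484043) (nat_lit 1792))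
)) (.node (nat_lit 0x81b48420a) (.leaf (nat_lit 0x81b484051) (nat_lit 1793))
 (.node (nat_lit 0x81b484218) (.leaf (nat_lit 0x81b48420a) (nat_lit 1539))
 (.leaf (nat_lit 0x81b484218) (nat_lit 1539))
)))) (.node (nat_lit 0x81b6042c9) (.node (nat_lit 0x81b484691) (.node (nat_lit 0x81b4844d8) (.leaf (nat_lit 0x81b4844ca) (nat_lit 1281))
 (.node (nat_lit 0x81b484683) (.leaf (nat_lit 0x81b4844d8) (nat_lit 1281))
 (.leaf (nat_lit 0x81b484683) (nat_lit 1541))
)) (.node (nat_lit 0x81b60420a) (.leaf (nat_lit 0x81b484691) (nat_lit 1541))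
 (.node (nat_lit 0x81b604212) (.leaf (nat_lit 0x81b60420a) (nat_lit 1797))
 (.leaf (nat_lit 0x81b604212) (nat_lit 1541))
))) (.node (nat_lit 0x81b604411) (.node (nat_lit 0x81b6042d1) (.leaf (nat_lit 0x81b6042c9) (nat_lit 1537))
 (.node (nat_lit 0x81b604409) (.leaf (nat_lit 0x81b6042d1) (nat_lit 1281))
 (.leaf (nat_lit 0x81b604409) (nat_lit 1795))
)) (.node (nat_lit 0x81b6044ca) (.leaf (nat_lit 0x81b604411) (nat_lit 1539))
 (.node (nat_lit 0x81b6044d2) (.leaf (nat_lit 0x81b6044ca) (nat_lit 1537))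
 (.leaf (nat_lit 0x81b6044d2) (nat_lit 1793))
))))))))))

theorem Y_ok : genOK B6.A [(nat_lit 0x810044089), (nat_lit 0x802204481), (nat_lit 0x810204089), (nat_lit 0x810204481), (nat_lit 0x808404042), (nat_lit 0x810204699)] Y_t (nat_lit 720) = true := by decide +kernel

end Cfsg.Agent.F4L
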